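import Groth.Agent.PicSepEt.Stein
import Groth.Agent.PicSmooth.Valuative
import Groth.Agent.DvrDom.Valuative
import Groth.Agent.ValLib.Rep
import Groth.Agent.S2821
import Groth.Agent.S0234

/-!
The relative Picard scheme of a smooth proper map is separated; closed subschemes of finite type are proper.
-/

set_option autoImplicit false
set_option backward.isDefEq.respectTransparency false
set_option backward.isDefEq.respectTransparency.types false
set_option linter.style.haveILetI false
set_option linter.unusedSectionVars false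
set_option maxHeartbeats 1000000

universe u

open CategoryTheory CategoryTheory.Limits AlgebraicGeometry TopologicalSpace IsLocalRing

noncomputable section

namespace Groth.Agent.PicSepEt

variable {X S : Scheme.{u}} (f : X ⟶ S) [IsProper f] [Smooth f]
  {P : Over S} {φ : ∀ T : Over S, PicF.Cl (PicF.XT f T) → (T ⟶ P)} (hP : PicRel.IsRelPic f P φ)

include hP in
/-- The relative Picard scheme is separated. -/
theorem isSeparated : IsSeparated P.hom := by
  refine ⟨?_⟩
  refine IsClosedImmersion.of_isPreimmersion _ ?_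
  let Z := pullback P.hom P.hom
  let a : Z ⟶ P.left := pullback.fst _ _
  let b : Z ⟶ P.left := pullback.snd _ _
  let C : Set Z := {z | Z.fromSpecResidueField z ≫ a = Z.fromSpecResidueField z ≫ b}
  have hrange : Set.range (pullback.diagonal P.hom) = C := by
    ext z
    refine ⟨?_, fun hz => ?_⟩
    · rintro ⟨w, rfl⟩
      let r := Spec.map ((pullback.diagonal P.hom).residueFieldMap w)
      haveI : Flat r := HasRingHomProperty.Spec_iff.2 (RingHom.Flat.of_isField (Field.toIsField _) _)
      haveI : Surjective r := ⟨fun q => ⟨IsLocalRing.closedPoint _, Subsingleton.elim _ _⟩⟩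
      haveI := Flat.epi_of_flat_of_surjective r
      refine (cancel_epi r).1 ?_
      simp only [r, a, b]
      rw [← Category.assoc, ← Category.assoc, Scheme.Hom.SpecMap_residueFieldMap_fromSpecResidueField]
      simp
    · have hlift : (Z.fromSpecResidueField z ≫ a) ≫ pullback.diagonal P.hom = Z.fromSpecResidueField z := by
        refine pullback.hom_ext ?_ ?_
        · simp [a]
        · simp only [Category.assoc, pullback.diagonal_snd, Category.comp_id]
          exact hz
      exact ⟨(Z.fromSpecResidueField z ≫ a) (IsLocalRing.closedPoint _), by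
        rw [← Scheme.Hom.comp_apply, hlift, Scheme.fromSpecResidueField_apply]⟩
  rw [hrange, ← isOpen_compl_iff]
  refine isOpen_iff_forall_mem_open.2 fun z hz => ?_
  let T : Over S := Over.mk (a ≫ P.hom)
  let α : T ⟶ P := Over.homMk a rfl
  let β : T ⟶ P := Over.homMk b pullback.condition.symm
  obtain ⟨ι₁, U₁, hU₁, h₁⟩ := hP.locallySurjective T α
  obtain ⟨k₁, x₁, hx₁⟩ := hU₁ z
  obtain ⟨c₁, hc₁, he₁⟩ := h₁ k₁
  let T₁ := PicRel.ovr T (U₁ k₁)
  obtain ⟨ι₂, U₂, hU₂, h₂⟩ := hP.locallySurjective T₁ (PicRel.ovrHom T (U₁ k₁) ≫ β)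
  obtain ⟨k₂, x₂, hx₂⟩ := hU₂ x₁
  obtain ⟨c₂, hc₂, he₂⟩ := h₂ k₂
  let T' := PicRel.ovr T₁ (U₂ k₂)
  let g₂ : T' ⟶ T₁ := PicRel.ovrHom T₁ (U₂ k₂)
  let w : T'.left ⟶ Z := (U₂ k₂).hom ≫ (U₁ k₁).hom
  obtain ⟨L, rfl, hL⟩ := hc₁
  obtain ⟨M, hMc, hM⟩ := hc₂
  let L' := (Scheme.Modules.pullback (PicF.XTmap f g₂)).obj L
  have hLa : (φ T' (PicF.cl L')).left = w ≫ a := by
    rw [show φ T' (PicF.cl L') = g₂ ≫ φ _ (PicF.cl L) from hP.natural _ _ g₂ _ ⟨L, rfl, hL⟩, he₁]
    exact (Category.assoc _ _ _).symm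
  have hMb : (φ T' (PicF.cl M)).left = w ≫ b := by
    rw [hMc, he₂]
    exact (Category.assoc _ _ _).symm
  have hpre : w ⁻¹' C = {t | T'.left.fromSpecResidueField t ≫ (φ T' (PicF.cl L')).left =
      T'.left.fromSpecResidueField t ≫ (φ T' (PicF.cl M)).left} := by
    ext t
    rw [hLa, hMb]
    let r := Spec.map (w.residueFieldMap t)
    haveI : Flat r := HasRingHomProperty.Spec_iff.2 (RingHom.Flat.of_isField (Field.toIsField _) _)
    haveI : Surjective r := ⟨fun q => ⟨IsLocalRing.closedPoint _, Subsingleton.elim _ _⟩⟩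
    haveI := Flat.epi_of_flat_of_surjective r
    change Z.fromSpecResidueField (w t) ≫ a = Z.fromSpecResidueField (w t) ≫ b ↔ _
    rw [← cancel_epi r]
    simp only [r, ← Category.assoc, Scheme.Hom.SpecMap_residueFieldMap_fromSpecResidueField]
    rfl
  have hopen : IsOpen (w ⁻¹' Cᶜ) := by
    rw [Set.preimage_compl, hpre]
    exact (isClosed_equal f hP T' (PicLoc.isInvertible_pullback _ hL) hM).isOpen_compl
  haveI : Etale (U₁ k₁).hom := (U₁ k₁).prop
  haveI : Etale (U₂ k₂).hom := (U₂ k₂).prop
  haveI : Etale w := inferInstanceAs (Etale ((U₂ k₂).hom ≫ (U₁ k₁).hom))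
  refine ⟨w '' (w ⁻¹' Cᶜ), Set.image_preimage_subset _ _, w.isOpenMap _ hopen, x₂, ?_, ?_⟩
  · change w x₂ ∈ Cᶜ
    rw [show w x₂ = z from (congrArg (U₁ k₁).hom hx₂).trans hx₁]
    exact hz
  · exact (congrArg (U₁ k₁).hom hx₂).trans hx₁

include hP in
/-- A point over the fraction field of a discrete valuation ring extends. -/
theorem exists_lift_dvr [IsLocallyNoetherian S] (A : Type u) [CommRing A] [IsDomain A] [IsDiscreteValuationRing A]
    (y : Spec (CommRingCat.of A) ⟶ S) (p : Spec (CommRingCat.of (FractionRing A)) ⟶ P.left)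
    (hp : p ≫ P.hom = Spec.map (CommRingCat.ofHom (algebraMap A (FractionRing A))) ≫ y) :
    ∃ m : Spec (CommRingCat.of A) ⟶ P.left, m ≫ P.hom = y ∧
      Spec.map (CommRingCat.ofHom (algebraMap A (FractionRing A))) ≫ m = p := by
  let K := FractionRing A
  let TK : Over S := Over.mk (p ≫ P.hom)
  obtain ⟨ι, U, hU, hc⟩ := hP.locallySurjective TK (Over.homMk p)
  obtain ⟨k, x, -⟩ := hU (closedPoint K)
  obtain ⟨c, hci, hce⟩ := hc k
  haveI : Etale (U k).hom := (U k).prop
  obtain ⟨u, hu⟩ : ∃ u : (U k).left, IsClosed ({u} : Set (U k).left) := by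
    let v : (U k).left ⟶ Spec (CommRingCat.of K) := (U k).hom
    haveI : LocallyOfFiniteType v := inferInstanceAs (LocallyOfFiniteType (U k).hom)
    haveI : JacobsonSpace (U k).left := LocallyOfFiniteType.jacobsonSpace v
    obtain ⟨u, -, hu⟩ := nonempty_inter_closedPoints (Z := (Set.univ : Set (U k).left)) ⟨x, trivial⟩
      isOpen_univ.isLocallyClosed
    exact ⟨u, hu⟩
  haveI : IsClosedImmersion ((U k).left.fromSpecResidueField u) := isClosed_singleton_iff_isClosedImmersion.1 hu
  let L := (U k).left.residueField u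
  obtain ⟨ψ, hψ⟩ := Spec.map_surjective ((U k).left.fromSpecResidueField u ≫ (U k).hom)
  have hψft : ψ.hom.FiniteType := by
    haveI : LocallyOfFiniteType (Spec.map ψ) := by rw [hψ]; infer_instance
    exact (HasRingHomProperty.Spec_iff (P := @LocallyOfFiniteType)).1 ‹_›
  letI : Algebra K L := ψ.hom.toAlgebra
  haveI : Algebra.FiniteType K L := hψft
  haveI : Module.Finite K L := finite_of_finite_type_of_isJacobsonRing K L
  letI : Algebra A L := (ψ.hom.comp (algebraMap A K)).toAlgebra
  haveI : FaithfulSMul A L := (faithfulSMul_iff_algebraMap_injective A L).2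
    (ψ.hom.injective.comp (IsFractionRing.injective A K))
  obtain ⟨s, hs⟩ := Module.Finite.fg_top (R := K) (M := L)
  have hA : ¬ IsField A := IsDiscreteValuationRing.not_isField A
  obtain ⟨R, hR, hmem, hdom⟩ := DvrDom.exists_dvr_dominating_of_fg (A := A) hA L (s : Set L) s.finite_toSet (by
    refine top_le_iff.1 fun z hztop => ?_
    clear hztop
    have hz : z ∈ Submodule.span K (s : Set L) := by rw [hs]; trivial
    induction hz using Submodule.span_induction with
    | mem w hw => exact Subfield.subset_closure (Or.inr hw)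
    | zero => exact zero_mem _
    | add w₁ w₂ _ _ h₁ h₂ => exact add_mem h₁ h₂
    | smul a w _ hw =>
      obtain ⟨n, d, hd, rfl⟩ := IsFractionRing.div_surjective (A := A) a
      rw [Algebra.smul_def, map_div₀]
      exact mul_mem (div_mem (Subfield.subset_closure (Or.inl ⟨n, rfl⟩)) (Subfield.subset_closure (Or.inl ⟨d, rfl⟩))) hw)
  haveI := hR
  let θ : A →+* R := (algebraMap A L).codRestrict R.toSubring hmem
  have hθ : IsLocalHom θ := ⟨fun a ha => by
    by_contra hna
    have h1 := hdom a hna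
    have h2 := (R.valuation_eq_one_iff (θ a)).1 ha
    exact absurd h2 (ne_of_lt h1)⟩
  let y' : Spec (CommRingCat.of R) ⟶ S := Spec.map (CommRingCat.ofHom θ) ≫ y
  let gen := Spec.map (CommRingCat.ofHom (algebraMap R L))
  haveI : IsOpenImmersion gen := IsoNatLib.ExtDVR.isOpenImmersion_generic R L
  let TR : Over S := Over.mk y'
  let TL : Over S := Over.mk (gen ≫ y')
  let h : TL ⟶ TR := Over.homMk gen
  have hbase : gen ≫ y' = ((U k).left.fromSpecResidueField u ≫ (U k).hom) ≫ p ≫ P.hom := by
    rw [← hψ, hp, ← Category.assoc, ← Category.assoc, ← Spec.map_comp, ← Spec.map_comp]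
    rfl
  let r : TL ⟶ PicRel.ovr TK (U k) := Over.homMk ((U k).left.fromSpecResidueField u)
    ((Category.assoc _ _ _).symm.trans hbase.symm)
  obtain ⟨L₁, hL₁c, hL₁⟩ := hci
  let L₀ := (Scheme.Modules.pullback (PicF.XTmap f r)).obj L₁
  have hL₀ : PicF.IsInvertible L₀ := PicLoc.isInvertible_pullback _ hL₁
  let q := PicF.XTmap f h
  haveI : IsOpenImmersion q :=
    MorphismProperty.of_isPullback (PicFam.isPullback_XTmap f h).flip ‹IsOpenImmersion gen›
  let π : PicF.XT f TR ⟶ Spec (CommRingCat.of R) := pullback.snd f y'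
  haveI : Smooth π := MorphismProperty.pullback_snd _ _ ‹Smooth f›
  haveI : IsLocallyNoetherian (PicF.XT f TR) := LocallyOfFiniteType.isLocallyNoetherian π
  obtain ⟨LR, hLR, ⟨e⟩⟩ := S0234.result (PicF.XT f TR) q.opensRange
    ((Scheme.Modules.pullback q.isoOpensRange.inv).obj L₀) (PicLoc.isInvertible_pullback _ hL₀) fun z _ => by
      haveI := PicSmooth.isRegularLocalRing_stalk_of_smooth (inferInstance : IsRegularRing R) π z
      exact (S2821.result ((PicF.XT f TR).presheaf.stalk z)).2
  have hpull : PicF.pullCl q (PicF.cl LR) = PicF.cl L₀ := by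
    have h1 : PicF.pullCl q.opensRange.ι (PicF.cl LR) = PicF.pullCl q.isoOpensRange.inv (PicF.cl L₀) :=
      Quot.sound ⟨((Scheme.Modules.restrictFunctorIsoPullback q.opensRange.ι).app LR).symm ≪≫ e⟩
    conv_lhs => rw [← q.isoOpensRange_hom_ι]
    rw [PicLoc.pullCl_comp, h1, ← PicLoc.pullCl_comp, Iso.hom_inv_id, PicLoc.pullCl_id]
  have hgen : gen ≫ (φ TR (PicF.cl LR)).left = Spec.map ψ ≫ p := by
    have h1 : h ≫ φ TR (PicF.cl LR) = r ≫ PicRel.ovrHom TK (U k) ≫ Over.homMk p := by
      rw [← hce, ← hP.natural TR TL h _ ⟨LR, rfl, hLR⟩, hpull, ← hL₁c, ← hP.natural _ TL r _ ⟨L₁, rfl, hL₁⟩]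
      rfl
    refine (congrArg CommaMorphism.left h1).trans ?_
    rw [hψ]
    exact (Category.assoc _ _ _).symm
  obtain ⟨m, hm1, hm2⟩ := ValLib.exists_descend_scheme (K := K) (K' := L) θ ψ.hom (RingHom.ext fun _ => rfl) hθ p
    (φ TR (PicF.cl LR)).left hgen
  refine ⟨m, ?_, hm1⟩
  haveI : Surjective (Spec.map (CommRingCat.ofHom θ)) := by
    refine ⟨fun z => ?_⟩
    rcases eq_or_ne z (closedPoint A) with rfl | hz
    · exact ⟨closedPoint R, IsLocalRing.comap_closedPoint (f := θ)⟩
    · refine ⟨(⟨⊥, Ideal.bot_prime⟩ : PrimeSpectrum R), PrimeSpectrum.ext ?_⟩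
      show Ideal.comap θ ⊥ = _
      rw [← RingHom.ker_eq_comap_bot, (RingHom.injective_iff_ker_eq_bot θ).1 fun a b hab =>
        FaithfulSMul.algebraMap_injective A L (congrArg Subtype.val hab)]
      by_contra hne
      exact hz (PrimeSpectrum.ext (IsLocalRing.eq_maximalIdeal
        (Ring.DimensionLEOne.maximalOfPrime (Ne.symm hne) z.2)))
  haveI : Flat (Spec.map (CommRingCat.ofHom θ)) := by
    refine Flat.SpecMap_iff.2 ?_
    letI := θ.toAlgebra
    haveI : FaithfulSMul A R := (faithfulSMul_iff_algebraMap_injective A R).2 fun a b hab =>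
      FaithfulSMul.algebraMap_injective A L (congrArg Subtype.val hab)
    haveI : Module.IsTorsionFree A R := Module.IsTorsionFree.trans_faithfulSMul A R R
    exact RingHom.flat_algebraMap_iff.2 inferInstance
  haveI : QuasiCompact (Spec.map (CommRingCat.ofHom θ)) := inferInstance
  haveI := Flat.epi_of_flat_of_surjective (Spec.map (CommRingCat.ofHom θ))
  rw [← cancel_epi (Spec.map (CommRingCat.ofHom θ)), ← Category.assoc, hm2]
  exact Over.w (φ TR (PicF.cl LR))

include hP in
/-- Closed subschemes of finite type are proper over the base. -/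
theorem isProper_closed [IsLocallyNoetherian S] {Z : Scheme.{u}} (i : Z ⟶ P.left) [IsClosedImmersion i]
    [LocallyOfFiniteType (i ≫ P.hom)] [QuasiCompact (i ≫ P.hom)] : IsProper (i ≫ P.hom) := by
  haveI := isSeparated f hP
  refine DvrDom.isProper_of_dvr (i ≫ P.hom) fun A _ _ _ x y hxy => ?_
  obtain ⟨m, hm, hmx⟩ := exists_lift_dvr f hP A y (x ≫ i) (by rw [Category.assoc]; exact hxy)
  let gen : Spec (CommRingCat.of (FractionRing A)) ⟶ Spec (CommRingCat.of A) :=
    Spec.map (CommRingCat.ofHom (algebraMap A (FractionRing A)))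
  haveI : IsDominant gen := ⟨by
    rw [show ⇑gen = PrimeSpectrum.comap (algebraMap A (FractionRing A)) from rfl]
    exact (PrimeSpectrum.denseRange_comap_iff_ker_le_nilRadical _).2
      (by rw [(RingHom.injective_iff_ker_eq_bot _).1 (IsFractionRing.injective A (FractionRing A))]; exact bot_le)⟩
  let j : pullback i m ⟶ Spec (CommRingCat.of A) := pullback.snd i m
  haveI : Surjective j := ⟨fun z => by
    have hsub : Set.range gen ⊆ Set.range j := by
      rintro _ ⟨w, rfl⟩
      exact ⟨pullback.lift x gen hmx.symm w, by rw [← Scheme.Hom.comp_apply, pullback.lift_snd]⟩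
    exact closure_minimal hsub j.isClosedEmbedding.isClosed_range ((Scheme.Hom.denseRange gen).closure_range ▸ trivial)⟩
  haveI : IsIso j := isIso_of_isClosedImmersion_of_surjective j
  let l := inv j ≫ pullback.fst i m
  have hl : l ≫ i = m := by rw [Category.assoc, pullback.condition]; simp [j]
  have hlgen : gen ≫ l = x := by
    rw [← cancel_mono i, Category.assoc, hl]
    exact hmx
  refine ⟨l, ⟨?_, hlgen⟩, fun l' h => ?_⟩
  · rw [← Category.assoc, hl, hm]
  · refine ext_of_isDominant_of_isSeparated (i ≫ P.hom) ?_ gen (h.2.trans hlgen.symm)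
    rw [h.1, ← Category.assoc, hl, hm]

end Groth.Agent.PicSepEt
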