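import Groth.Prelude.Def_PicRel2
import Groth.Agent.PicFam.Separated
import Groth.Agent.PicFam.Product
import Groth.Agent.SteinEt.Main
import Groth.Agent.InfLift.SmoothLift
import Groth.Agent.ClosedRep.GeomIntegral
import Groth.Agent.W7Cube.Pic
import Groth.Agent.W7See.Main
import Groth.Agent.Rigid.Smooth
import Groth.Agent.MeroLib.Special

/-!
Equality of points of the étale relative Picard functor of a smooth proper map, via the Stein factorisation.
-/

set_option autoImplicit false
set_option backward.isDefEq.respectTransparency false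
set_option backward.isDefEq.respectTransparency.types false
set_option linter.style.haveILetI false
set_option linter.unusedSectionVars false
set_option maxHeartbeats 1000000

universe u

open CategoryTheory CategoryTheory.Limits AlgebraicGeometry TopologicalSpace
open TMul (IsGen)
open Groth.Agent.W7Cube (pull pull_pull pull_cls)

attribute [local instance] Groth.Agent.W7Cube.law

noncomputable section

namespace Groth.Agent.PicSepEt

/-- A fibrewise isomorphism is preserved by base change. -/
theorem fiber_iso_baseChange {X Y Y' : Scheme.{u}} (q : X ⟶ Y) (g : Y' ⟶ Y) {L M : X.Modules} (y : Y')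
    (h : Nonempty (CohIII.fiberMod q L (g y) ≅ CohIII.fiberMod q M (g y))) :
    Nonempty (CohIII.fiberMod (pullback.snd q g) ((Scheme.Modules.pullback (pullback.fst q g)).obj L) y ≅
      CohIII.fiberMod (pullback.snd q g) ((Scheme.Modules.pullback (pullback.fst q g)).obj M) y) := by
  obtain ⟨i⟩ := h
  let r : (pullback.snd q g).fiber y ⟶ q.fiber (g y) :=
    pullback.lift ((pullback.snd q g).fiberι y ≫ pullback.fst q g)
      ((pullback.snd q g).fiberToSpecResidueField y ≫ Spec.map (g.residueFieldMap y)) (by
        rw [Category.assoc, Category.assoc, pullback.condition, Scheme.Hom.SpecMap_residueFieldMap_fromSpecResidueField,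
          ← Category.assoc, ← Category.assoc]
        exact congrArg (· ≫ g) pullback.condition)
  have hr : r ≫ q.fiberι (g y) = (pullback.snd q g).fiberι y ≫ pullback.fst q g := pullback.lift_fst _ _ _
  let c : ∀ L : X.Modules, (Scheme.Modules.pullback ((pullback.snd q g).fiberι y)).obj
      ((Scheme.Modules.pullback (pullback.fst q g)).obj L) ≅
      (Scheme.Modules.pullback r).obj (CohIII.fiberMod q L (g y)) := fun L =>
    (Scheme.Modules.pullbackComp _ _).app L ≪≫ (Scheme.Modules.pullbackCongr hr.symm).app L ≪≫
      ((Scheme.Modules.pullbackComp r (q.fiberι (g y))).app L).symm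
  exact ⟨c L ≪≫ (Scheme.Modules.pullback r).mapIso i ≪≫ (c M).symm⟩

/-- Invertible modules on a finite scheme over a field are trivial. -/
theorem trivial_of_finite {k : Type u} [Field k] {Z : Scheme.{u}} (e : Z ⟶ Spec (CommRingCat.of k)) [IsFinite e]
    {N : Z.Modules} (hN : PicF.IsInvertible N) : Nonempty (N ≅ Coh.structureModule Z) := by
  haveI : Finite ↥Z := by
    haveI : Subsingleton ↥(Spec (CommRingCat.of k)) := inferInstanceAs (Subsingleton (PrimeSpectrum k))
    haveI : Finite ↥(Spec (CommRingCat.of k)) := Finite.of_subsingleton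
    exact Finite.of_finite_univ ((e.finite_preimage Set.finite_univ).subset fun _ _ => trivial)
  haveI : JacobsonSpace ↥Z := LocallyOfFiniteType.jacobsonSpace e
  haveI : DiscreteTopology ↥Z := inferInstance
  let O : ↥Z → Z.Opens := fun z => ⟨{z}, isOpen_discrete _⟩
  have hgen : ∀ z, ∃ v : Γ(N, O z), IsGen v := fun z => by
    obtain ⟨U, v, hzU, hv⟩ := TMul.exists_isGen hN z
    exact ⟨_, hv.res (fun w (hw : w ∈ ({z} : Set ↥Z)) => by rw [Set.mem_singleton_iff.1 hw]; exact hzU : O z ≤ U)⟩
  choose v hv using hgen
  obtain ⟨w, hw⟩ := MeroLib.exists_gen_of_disjoint O v hv (fun i j x (hi : x ∈ ({i} : Set ↥Z)) (hj : x ∈ ({j} : Set ↥Z)) =>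
    (Set.mem_singleton_iff.1 hi).symm.trans (Set.mem_singleton_iff.1 hj))
  have htop : (⨆ z, O z) = ⊤ := eq_top_iff.2 fun z _ => Opens.mem_iSup.2 ⟨z, rfl⟩
  exact PicFam.nonempty_iso_of_gen (hw.res htop.ge)

/-- On a family over a scheme finite étale over a field, fibrewise isomorphic modules are isomorphic. -/
theorem nonempty_iso_of_fibres {k : Type u} [Field k] {Y Z : Scheme.{u}} (q : Y ⟶ Z) [IsProper q] [Flat q]
    [LocallyOfFinitePresentation q] [GeometricallyIntegral q] (e : Z ⟶ Spec (CommRingCat.of k)) [IsFinite e] [Etale e]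
    {L M : Y.Modules} (hL : PicF.IsInvertible L) (hM : PicF.IsInvertible M)
    (h : ∀ z, Nonempty (CohIII.fiberMod q L z ≅ CohIII.fiberMod q M z)) : Nonempty (L ≅ M) := by
  haveI : IsReduced Z := by
    haveI : GeometricallyReduced e := Rigid.geometricallyReduced_of_smooth e
    exact GeometricallyReduced.isReduced_of_flat_of_finite_irreducibleComponents e
  haveI : IsLocallyNoetherian Z := LocallyOfFiniteType.isLocallyNoetherian e
  obtain ⟨M', hM', ⟨ε⟩⟩ := W7Hull.exists_tensor_inverse hM
  have hT := TMul.isInvertible_tensorMod hM' hL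
  obtain ⟨hN, hiso⟩ := W7See.seesaw q (PicFam.bijective_fiber_of_geomIntegral q) _ hT
    fun z => (PicFam.fiber_iso_iff q ε z).2 (h z)
  haveI := hiso
  obtain ⟨j⟩ := trivial_of_finite e hN
  let i : CohB1.tensorMod M' L ≅ Coh.structureModule Y :=
    (asIso ((Scheme.Modules.pullbackPushforwardAdjunction q).counit.app (CohB1.tensorMod M' L))).symm ≪≫
      (Scheme.Modules.pullback q).mapIso j ≪≫ PicLoc.pullbackStructureIso q
  obtain ⟨a⟩ := PicFam.nonempty_iso_tensor ε i.symm
  exact ⟨a.symm ≪≫ TMul.commIso _ _ ≪≫ TMul.leftUnitIso M⟩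

variable {X S : Scheme.{u}} (f : X ⟶ S) [IsProper f] [Smooth f]
  {P : Over S} {φ : ∀ T : Over S, PicF.Cl (PicF.XT f T) → (T ⟶ P)} (hP : PicRel.IsRelPic f P φ)

include hP in
/-- The locus where two classes give the same point is closed. -/
theorem isClosed_equal (T : Over S) {L M : (PicF.XT f T).Modules} (hL : PicF.IsInvertible L) (hM : PicF.IsInvertible M) :
    IsClosed {t : T.left | T.left.fromSpecResidueField t ≫ (φ T (PicF.cl L)).left =
      T.left.fromSpecResidueField t ≫ (φ T (PicF.cl M)).left} := by
  haveI : GeometricallyReduced f := Rigid.geometricallyReduced_of_smooth f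
  obtain ⟨hfin, het⟩ := SteinEt.isFinite_and_etale_fromNormalization f
  haveI := hfin
  haveI := het
  obtain ⟨hp, hfl, hlfp, -, -⟩ := SteinEt.toNormalization_props f
  haveI := hp
  haveI := hfl
  haveI := hlfp
  haveI : Smooth f.toNormalization := by
    haveI : Smooth (f.toNormalization ≫ f.fromNormalization) := by rw [f.toNormalization_fromNormalization]; infer_instance
    exact InfLift.smooth_of_comp_etale f.toNormalization f.fromNormalization
  haveI : GeometricallyIntegral f.toNormalization := ClosedRep.GeomIntegral.geometricallyIntegral_of_smooth f.toNormalization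
  let T' := pullback f.fromNormalization T.hom
  let e : T' ⟶ T.left := pullback.snd f.fromNormalization T.hom
  haveI : IsFinite e := inferInstance
  haveI : Etale e := inferInstance
  let q : PicF.XT f T ⟶ T' := pullback.lift (pullback.fst f T.hom ≫ f.toNormalization) (pullback.snd f T.hom) (by
    rw [Category.assoc, f.toNormalization_fromNormalization]; exact pullback.condition)
  have hqe : q ≫ e = pullback.snd f T.hom := pullback.lift_snd _ _ _
  have hsq : IsPullback (pullback.fst f T.hom) q f.toNormalization (pullback.fst f.fromNormalization T.hom) := by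
    refine IsPullback.of_bot ?_ (pullback.lift_fst _ _ _).symm (IsPullback.of_hasPullback f.fromNormalization T.hom)
    rw [f.toNormalization_fromNormalization]
    exact hqe ▸ IsPullback.of_hasPullback f T.hom
  haveI : IsProper q := MorphismProperty.of_isPullback hsq hp
  haveI : Flat q := MorphismProperty.of_isPullback hsq hfl
  haveI : LocallyOfFinitePresentation q := MorphismProperty.of_isPullback hsq hlfp
  haveI : GeometricallyIntegral q := MorphismProperty.of_isPullback hsq ‹_›
  let B : Set T' := {t' | Nonempty (CohIII.fiberMod q L t' ≅ CohIII.fiberMod q M t')}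
  suffices hC : {t : T.left | T.left.fromSpecResidueField t ≫ (φ T (PicF.cl L)).left =
      T.left.fromSpecResidueField t ≫ (φ T (PicF.cl M)).left} = (e '' Bᶜ)ᶜ by
    rw [hC]
    exact (e.isOpenMap _ (PicFam.isClosed_fiber_iso q hL hM).isOpen_compl).isClosed_compl
  ext t
  simp only [Set.mem_setOf_eq, Set.mem_compl_iff, Set.mem_image, not_exists, not_and]
  let g : Over.mk (T.left.fromSpecResidueField t ≫ T.hom) ⟶ T := Over.homMk (T.left.fromSpecResidueField t)
  have hn : ∀ L : (PicF.XT f T).Modules, PicF.IsInvertible L →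
      φ _ (PicF.cl ((Scheme.Modules.pullback (PicF.XTmap f g)).obj L)) = g ≫ φ T (PicF.cl L) :=
    fun L hL => hP.natural T _ g (PicF.cl L) ⟨L, rfl, hL⟩
  constructor
  · intro h t' ht' htB
    apply ht'
    have h' : g ≫ φ T (PicF.cl L) = g ≫ φ T (PicF.cl M) := Over.OverMorphism.ext h
    rw [← hn L hL, ← hn M hM] at h'
    obtain ⟨ι, U, hU, hUe⟩ := hP.locallyInjective _ _ _ ⟨_, rfl, PicLoc.isInvertible_pullback _ hL⟩
      ⟨_, rfl, PicLoc.isInvertible_pullback _ hM⟩ h'
    obtain ⟨k, x, -⟩ := hU (IsLocalRing.closedPoint _)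
    obtain ⟨i⟩ := PicFam.nonempty_iso_of_cl_eq (hUe k)
    let u : (U k).left ⟶ T.left := (U k).hom ≫ T.left.fromSpecResidueField t
    obtain ⟨y, hy, -⟩ := Scheme.Pullback.exists_preimage_pullback (f := e) (g := u) t' x (by
      rw [htB]
      exact (Scheme.fromSpecResidueField_apply _ _).symm)
    let g' : pullback e u ⟶ T' := pullback.fst e u
    let mU := PicF.XTmap f (PicRel.ovrHom (Over.mk (T.left.fromSpecResidueField t ≫ T.hom)) (U k))
    let n : pullback q g' ⟶ PicF.XT f (PicRel.ovr (Over.mk (T.left.fromSpecResidueField t ≫ T.hom)) (U k)) :=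
      pullback.lift (pullback.fst q g' ≫ pullback.fst f T.hom) (pullback.snd q g' ≫ pullback.snd e u) (by
        rw [Category.assoc, Category.assoc, pullback.condition, ← hqe]
        simp only [Category.assoc]
        rw [pullback.condition_assoc (f := q), pullback.condition_assoc (f := e)]
        simp only [u, Category.assoc]
        rfl)
    have hcomp : (n ≫ mU) ≫ PicF.XTmap f g = pullback.fst q g' := by
      refine pullback.hom_ext ?_ ?_
      · simp only [Category.assoc, mU, PicF.XTmap, pullback.lift_fst, Category.comp_id]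
        simp only [n, pullback.lift_fst]
      · simp only [Category.assoc, mU, PicF.XTmap, pullback.lift_snd, n]
        simp only [← Category.assoc, pullback.lift_snd]
        rw [← hqe, ← Category.assoc, pullback.condition, Category.assoc, Category.assoc, Category.assoc,
          pullback.condition]
        rfl
    let c : ∀ L : (PicF.XT f T).Modules, (Scheme.Modules.pullback n).obj ((Scheme.Modules.pullback mU).obj
        ((Scheme.Modules.pullback (PicF.XTmap f g)).obj L)) ≅ (Scheme.Modules.pullback (pullback.fst q g')).obj L :=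
      fun L => (Scheme.Modules.pullbackComp n mU).app _ ≪≫ (Scheme.Modules.pullbackComp _ _).app L ≪≫
        (Scheme.Modules.pullbackCongr hcomp).app L
    obtain ⟨r⟩ := PicFam.fiber_iso_descend q g' hL hM y ((c L).symm ≪≫ (Scheme.Modules.pullback n).mapIso i ≪≫ c M)
    exact hy ▸ ⟨r⟩
  · intro h
    let g₁ := pullback.fst e (T.left.fromSpecResidueField t)
    let e₁ := pullback.snd e (T.left.fromSpecResidueField t)
    obtain ⟨i⟩ := nonempty_iso_of_fibres (pullback.snd q g₁) e₁
      (PicLoc.isInvertible_pullback (pullback.fst q g₁) hL) (PicLoc.isInvertible_pullback (pullback.fst q g₁) hM)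
      fun z => fiber_iso_baseChange q g₁ z (by
        by_contra hz
        refine h (g₁ z) hz ?_
        rw [← Scheme.Hom.comp_apply, pullback.condition, Scheme.Hom.comp_apply]
        exact Scheme.fromSpecResidueField_apply _ _)
    let m := PicF.XTmap f g
    let n : PicF.XT f (Over.mk (T.left.fromSpecResidueField t ≫ T.hom)) ⟶ pullback q g₁ :=
      pullback.lift m (pullback.lift (m ≫ q) (pullback.snd f _) (by
        rw [Category.assoc, hqe]
        exact pullback.lift_snd _ _ _)) (pullback.lift_fst _ _ _).symm
    have hn1 : n ≫ pullback.fst q g₁ = m := pullback.lift_fst _ _ _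
    let c : ∀ L : (PicF.XT f T).Modules, (Scheme.Modules.pullback n).obj ((Scheme.Modules.pullback (pullback.fst q g₁)).obj L) ≅
        (Scheme.Modules.pullback m).obj L := fun L =>
      (Scheme.Modules.pullbackComp _ _).app L ≪≫ (Scheme.Modules.pullbackCongr hn1).app L
    have h' : g ≫ φ T (PicF.cl L) = g ≫ φ T (PicF.cl M) := by
      rw [← hn L hL, ← hn M hM]
      exact congrArg _ (Quot.sound ⟨(c L).symm ≪≫ (Scheme.Modules.pullback n).mapIso i ≪≫ c M⟩)
    exact congrArg CommaMorphism.left h'

end Groth.Agent.PicSepEt
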